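/-
A strict henselization of `B_q` is one of a closed point of `S ⊗ B`, `S` a strict henselization of
the base, when the residue extension is algebraic.
-/
import Groth.Prelude.Def_Hensel
import Mathlib.RingTheory.TensorProduct.Basic
import Mathlib.RingTheory.Localization.AtPrime.Basic
import Mathlib.FieldTheory.IsSepClosed
import Mathlib.RingTheory.Algebraic.Integral

set_option autoImplicit false

universe u

open scoped TensorProduct
open IsLocalRing

namespace Groth.Agent.Lib.StrictHenselShift

theorem exists_maximal_isStrictHenselization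
    (R₁ : Type u) [CommRing R₁] [IsLocalRing R₁]
    {P : Type u} [CommRing P] [Algebra P R₁] (𝔭 : Ideal P) [𝔭.IsPrime] [IsLocalization.AtPrime R₁ 𝔭]
    (S : Type u) [CommRing S] [IsLocalRing S] [Algebra R₁ S] [IsLocalHom (algebraMap R₁ S)]
    [Hensel.IsStrictHenselization R₁ S] [Algebra P S] [IsScalarTower P R₁ S]
    {B : Type u} [CommRing B] [Algebra P B] (O : Type u) [CommRing O] [IsLocalRing O] [Algebra B O]
    (q : Ideal B) [q.IsPrime] [IsLocalization.AtPrime O q] (hq : q.comap (algebraMap P B) = 𝔭)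
    (A : Type u) [CommRing A] [IsLocalRing A] [Algebra O A] [IsLocalHom (algebraMap O A)]
    [Hensel.IsStrictHenselization O A]
    (halg : ∀ y : ResidueField O, ∃ p : Polynomial P,
      p.map ((residue O).comp ((algebraMap B O).comp (algebraMap P B))) ≠ 0 ∧
      p.eval₂ ((residue O).comp ((algebraMap B O).comp (algebraMap P B))) y = 0) :
    ∃ (q' : Ideal (S ⊗[P] B)) (_ : q'.IsMaximal)
      (_ : q'.comap (Algebra.TensorProduct.includeLeftRingHom (R := P) (A := S) (B := B)) = maximalIdeal S),
      ∀ (Cq : Type u) [CommRing Cq] [IsLocalRing Cq] [Algebra (S ⊗[P] B) Cq]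
        [IsLocalization.AtPrime Cq q'],
        ∃ (_ : Algebra Cq A) (_ : IsLocalHom (algebraMap Cq A)),
          Hensel.IsStrictHenselization Cq A := by
  classical
  have hA : HenselianLocalRing A := Hensel.IsStrictHenselization.henselian (R := O)
  let π : P →+* B := algebraMap P B
  let ω : B →+* O := algebraMap B O
  have hωu : ∀ b : B, b ∉ q → IsUnit (ω b) := fun b hb ↦
    (IsLocalization.AtPrime.isUnit_to_map_iff O q b).mpr hb
  have hωn : ∀ b : B, b ∈ q → ¬ IsUnit (ω b) := fun b hb h ↦
    (IsLocalization.AtPrime.isUnit_to_map_iff O q b).mp h hb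
  -- the map `R₁ → O`
  let φ : R₁ →+* O := IsLocalization.lift (M := 𝔭.primeCompl) (g := ω.comp π) fun s ↦
    hωu _ fun h ↦ s.2 (hq ▸ h)
  have hφP : ∀ p, φ (algebraMap P R₁ p) = ω (π p) := fun p ↦ IsLocalization.lift_eq _ p
  have hφloc : IsLocalHom φ := ⟨fun r hr ↦ by
    obtain ⟨⟨p, s⟩, hps⟩ := IsLocalization.surj 𝔭.primeCompl r
    have hp : p ∉ 𝔭 := fun hp ↦ hωn (π p) (show p ∈ q.comap (algebraMap P B) from hq.symm ▸ hp)
      (by rw [← hφP, ← hps, map_mul]; exact hr.mul (IsLocalization.map_units R₁ s |>.map φ))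
    exact isUnit_of_mul_isUnit_left (hps ▸ (IsLocalization.AtPrime.isUnit_to_map_iff R₁ 𝔭 p).mpr hp)⟩
  let h : R₁ →+* A := (algebraMap O A).comp φ
  have : IsLocalHom h := RingHom.isLocalHom_comp _ _
  -- the residue map
  let hres : ResidueField R₁ →+* ResidueField A := ResidueField.map h
  let : Algebra (ResidueField R₁) (ResidueField A) := hres.toAlgebra
  have hΩ : IsSepClosed (ResidueField A) :=
    (Hensel.IsStrictHenselization.isSepClosure (R := O) (S := A)).sep_closed
  have hS : Algebra.IsSeparable (ResidueField R₁) (ResidueField S) :=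
    (Hensel.IsStrictHenselization.isSepClosure (R := R₁) (S := S)).separable
  let τ₀ : ResidueField S →ₐ[ResidueField R₁] ResidueField A := IsSepClosed.lift
  have hτ₀ : τ₀.toRingHom.comp (ResidueField.map (algebraMap R₁ S)) = ResidueField.map h :=
    RingHom.ext fun x ↦ τ₀.commutes x
  obtain ⟨g₀, ⟨hg₀, hg₀r⟩, -⟩ :=
    Hensel.IsStrictHenselization.universal (R := R₁) (S := S) A h τ₀.toRingHom hτ₀
  let : Algebra P A := (h.comp (algebraMap P R₁)).toAlgebra
  let gS : S →ₐ[P] A :=
    { g₀ with
      commutes' := fun p ↦ by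
        show g₀ (algebraMap P S p) = h (algebraMap P R₁ p)
        rw [IsScalarTower.algebraMap_apply P R₁ S, ← RingHom.comp_apply, hg₀] }
  let gB : B →ₐ[P] A :=
    { (algebraMap O A).comp ω with
      commutes' := fun p ↦ by
        show algebraMap O A (ω (π p)) = algebraMap O A (φ (algebraMap P R₁ p))
        rw [hφP] }
  let Φ : S ⊗[P] B →ₐ[P] A := Algebra.TensorProduct.lift gS gB fun _ _ ↦ Commute.all _ _
  have hΦS : ∀ s, Φ (s ⊗ₜ[P] 1) = g₀ s := fun s ↦ by
    show Φ (s ⊗ₜ[P] 1) = gS s
    simp [Φ]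
  have hΦB : ∀ b, Φ (1 ⊗ₜ[P] b) = algebraMap O A (ω b) := fun b ↦ by
    show Φ (1 ⊗ₜ[P] b) = gB b
    simp [Φ]
  let q' : Ideal (S ⊗[P] B) := (maximalIdeal A).comap Φ
  let ψ : S ⊗[P] B →+* ResidueField A := (residue A).comp Φ.toRingHom
  have hq'ψ : ∀ c, c ∈ q' ↔ ψ c = 0 := fun c ↦ by
    rw [Ideal.mem_comap, ← residue_eq_zero_iff]; rfl
  -- maximality
  let : Algebra (ResidueField S) (ResidueField A) := τ₀.toRingHom.toAlgebra
  have hψS : ∀ s, ψ (s ⊗ₜ[P] 1) = algebraMap (ResidueField S) (ResidueField A) (residue S s) :=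
    fun s ↦ (congrArg (residue A) (hΦS s)).trans (hg₀r s)
  have hint : ∀ c, IsIntegral (ResidueField S) (ψ c) := by
    intro c
    induction c using TensorProduct.induction_on with
    | zero => rw [map_zero]; exact isIntegral_zero
    | add c d hc hd => rw [map_add]; exact hc.add hd
    | tmul s b =>
      rw [show s ⊗ₜ[P] b = (s ⊗ₜ[P] (1 : B)) * ((1 : S) ⊗ₜ[P] b) by simp, map_mul, hψS]
      refine isIntegral_algebraMap.mul ?_
      obtain ⟨p, hp0, hp⟩ := halg (residue O (ω b))
      let j := ResidueField.map (algebraMap O A)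
      have hcomp : (algebraMap (ResidueField S) (ResidueField A)).comp
          ((residue S).comp (algebraMap P S)) = j.comp ((residue O).comp (ω.comp π)) := by
        refine RingHom.ext fun x ↦ ?_
        show algebraMap (ResidueField S) (ResidueField A) (residue S (algebraMap P S x))
          = residue A (algebraMap O A (ω (π x)))
        rw [← hψS, ← hΦB]
        show residue A (Φ (algebraMap P S x ⊗ₜ[P] 1)) = _
        rw [Algebra.TensorProduct.tmul_one_eq_one_tmul]
      refine IsAlgebraic.isIntegral ⟨p.map ((residue S).comp (algebraMap P S)), ?_, ?_⟩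
      · intro h0
        apply hp0
        apply Polynomial.map_injective j j.injective
        rw [Polynomial.map_map, Polynomial.map_zero, ← hcomp, ← Polynomial.map_map, h0,
          Polynomial.map_zero]
      · rw [Polynomial.aeval_def, Polynomial.eval₂_map, hcomp,
          show ψ (1 ⊗ₜ[P] b) = j (residue O (ω b)) from congrArg (residue A) (hΦB b),
          ← Polynomial.hom_eval₂, hp, map_zero]
  have hmax : q'.IsMaximal := by
    let D : Subalgebra (ResidueField S) (ResidueField A) :=
      { ψ.range.toSubsemiring with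
        algebraMap_mem' := fun x ↦ by
          obtain ⟨s, rfl⟩ := residue_surjective x
          exact ⟨s ⊗ₜ[P] 1, hψS s⟩ }
    refine Ideal.isMaximal_iff.mpr ⟨fun h1 ↦ one_ne_zero ((map_one ψ).symm.trans ((hq'ψ 1).mp h1)),
      fun J c hJ hc hcJ ↦ ?_⟩
    obtain ⟨d, hd⟩ := D.inv_mem_of_algebraic (x := ⟨ψ c, c, rfl⟩) (hint c).isAlgebraic
    have h1 : 1 - c * d ∈ q' := (hq'ψ _).mpr (by
      rw [map_sub, map_one, map_mul, hd]
      show 1 - ψ c * (ψ c)⁻¹ = 0
      rw [mul_inv_cancel₀ (fun h0 ↦ hc ((hq'ψ c).mpr h0)), sub_self])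
    simpa using add_mem (hJ h1) (J.mul_mem_right d hcJ)
  have hqS : q'.comap (Algebra.TensorProduct.includeLeftRingHom (R := P) (A := S) (B := B))
      = maximalIdeal S := by
    ext s
    rw [Ideal.mem_comap, hq'ψ, show Algebra.TensorProduct.includeLeftRingHom s = s ⊗ₜ[P] (1 : B) from rfl,
      hψS, map_eq_zero, residue_eq_zero_iff]
  refine ⟨q', hmax, hqS, fun Cq _ _ _ _ ↦ ?_⟩
  -- the algebra structure on `A`
  let : Algebra Cq A := (IsLocalization.lift (M := q'.primeCompl) (g := Φ.toRingHom)
    fun c ↦ by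
      by_contra hc
      exact c.2 ((mem_maximalIdeal _).mpr hc)).toAlgebra
  have hlift : ∀ c, algebraMap Cq A (algebraMap _ Cq c) = Φ c := fun c ↦ IsLocalization.lift_eq _ c
  have hloc : IsLocalHom (algebraMap Cq A) := ⟨fun x hx ↦ by
    obtain ⟨⟨c, s⟩, hcs⟩ := IsLocalization.surj q'.primeCompl x
    have hc : c ∉ q' := fun hc ↦ (mem_maximalIdeal _).mp hc (by
      show IsUnit (Φ c)
      rw [← hlift, ← hcs, map_mul]
      exact hx.mul ((IsLocalization.map_units Cq s).map _))
    exact isUnit_of_mul_isUnit_left (hcs ▸ (IsLocalization.AtPrime.isUnit_to_map_iff Cq q' c).mpr hc)⟩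
  refine ⟨inferInstance, hloc, hA, ?_, ?_⟩
  · -- residue field
    let ι : B →+* Cq := (algebraMap _ Cq).comp
      (Algebra.TensorProduct.includeRight : B →ₐ[P] S ⊗[P] B).toRingHom
    have hι : ∀ b, algebraMap Cq A (ι b) = algebraMap O A (ω b) := fun b ↦ (hlift _).trans (hΦB b)
    let j : O →+* Cq := IsLocalization.lift (M := q.primeCompl) (g := ι) fun b ↦
      isUnit_of_map_unit (algebraMap Cq A) (ι b.1) (by
        rw [hι]; exact (hωu b.1 b.2).map (algebraMap O A))
    have hj : (algebraMap Cq A).comp j = algebraMap O A :=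
      IsLocalization.ringHom_ext q.primeCompl (RingHom.ext fun b ↦ by
        show algebraMap Cq A (j (ω b)) = _
        rw [IsLocalization.lift_eq, hι]
        rfl)
    have : IsLocalHom j := ⟨fun a ha ↦ isUnit_of_map_unit (algebraMap O A) a (by
      rw [← hj, RingHom.comp_apply]; exact ha.map (algebraMap Cq A))⟩
    let : Algebra (ResidueField O) (ResidueField Cq) := (ResidueField.map j).toAlgebra
    have : IsScalarTower (ResidueField O) (ResidueField Cq) (ResidueField A) :=
      IsScalarTower.of_algebraMap_eq fun x ↦ by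
        obtain ⟨a, rfl⟩ := residue_surjective x
        exact congrArg (residue A) (RingHom.congr_fun hj a).symm
    have := (Hensel.IsStrictHenselization.isSepClosure (R := O) (S := A)).separable
    exact ⟨hΩ, Algebra.isSeparable_tower_top_of_isSeparable (ResidueField O) (ResidueField Cq)
      (ResidueField A)⟩
  · -- universal property
    intro T _ _ f _ τ hτ
    let fB : B →+* T := (f.comp (algebraMap _ Cq)).comp
      (Algebra.TensorProduct.includeRight : B →ₐ[P] S ⊗[P] B).toRingHom
    let fS : S →+* T := (f.comp (algebraMap _ Cq)).comp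
      (Algebra.TensorProduct.includeLeftRingHom (R := P) (A := S) (B := B))
    have hfres : ∀ c, residue T (f (algebraMap _ Cq c)) = τ (residue A (Φ c)) := fun c ↦ by
      rw [← hlift]
      exact (RingHom.congr_fun hτ (residue Cq (algebraMap _ Cq c))).symm
    have hu : ∀ {y : T}, IsUnit y ↔ residue T y ≠ 0 := fun {y} ↦ by
      rw [ne_eq, residue_eq_zero_iff, mem_maximalIdeal, mem_nonunits_iff, not_not]
    have huA : ∀ {y : A}, IsUnit y ↔ residue A y ≠ 0 := fun {y} ↦ by
      rw [ne_eq, residue_eq_zero_iff, mem_maximalIdeal, mem_nonunits_iff, not_not]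
    let fO : O →+* T := IsLocalization.lift (M := q.primeCompl) (g := fB) fun b ↦ by
      rw [hu]
      show residue T (f (algebraMap _ Cq (1 ⊗ₜ[P] b.1))) ≠ 0
      rw [hfres, hΦB, map_ne_zero]
      exact ((hωu b.1 b.2).map (algebraMap O A)).map (residue A) |>.ne_zero
    have hfO : ∀ o, residue T (fO o) = τ (residue A (algebraMap O A o)) := fun o ↦
      RingHom.congr_fun (IsLocalization.ringHom_ext q.primeCompl
        (j := (residue T).comp fO) (k := τ.comp ((residue A).comp (algebraMap O A)))
        (RingHom.ext fun b ↦ by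
          show residue T (fO (ω b)) = _
          rw [IsLocalization.lift_eq]
          refine (hfres _).trans ?_
          show τ (residue A (Φ (1 ⊗ₜ[P] b))) = _
          rw [hΦB]
          rfl)) o
    have : IsLocalHom fO := ⟨fun o ho ↦ by
      rw [hu, hfO, map_ne_zero, ← huA] at ho
      exact isUnit_of_map_unit (algebraMap O A) o ho⟩
    obtain ⟨g, ⟨hg, hgr⟩, hguniq⟩ := Hensel.IsStrictHenselization.universal (R := O) (S := A) T fO τ
      (RingHom.ext fun x ↦ by
        obtain ⟨o, rfl⟩ := residue_surjective x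
        exact (hfO o).symm)
    have hgB : ∀ b, g (algebraMap O A (ω b)) = fB b := fun b ↦ by
      rw [← RingHom.comp_apply, hg]; exact IsLocalization.lift_eq _ b
    have hgP : ∀ p, g (h (algebraMap P R₁ p)) = fB (π p) := fun p ↦ by
      show g (algebraMap O A (φ (algebraMap P R₁ p))) = _
      rw [hφP, hgB]
    have hfP : ∀ p, fS (algebraMap P S p) = fB (π p) := fun p ↦
      congrArg (fun c ↦ f (algebraMap (S ⊗[P] B) Cq c))
        (Algebra.TensorProduct.tmul_one_eq_one_tmul (A := S) (B := B) p)
    -- the two maps on `S`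
    have hgS : g.comp g₀ = fS := by
      have hgh : IsLocalHom (g.comp h) := ⟨fun r hr ↦ by
        rw [RingHom.comp_apply, hu, hgr, map_ne_zero, ← huA] at hr
        exact isUnit_of_map_unit h r hr⟩
      obtain ⟨g₁, -, huniq⟩ := Hensel.IsStrictHenselization.universal (R := R₁) (S := S) T (g.comp h)
        (τ.comp τ₀.toRingHom) (RingHom.ext fun x ↦ by
          obtain ⟨r, rfl⟩ := residue_surjective x
          exact (congrArg τ (τ₀.commutes (residue R₁ r))).trans (hgr (h r)).symm)
      refine (huniq (g.comp g₀) ⟨by rw [RingHom.comp_assoc, hg₀], fun s ↦ ?_⟩).trans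
        (huniq fS ⟨?_, fun s ↦ ?_⟩).symm
      · exact (hgr _).trans (congrArg τ (hg₀r s))
      · refine IsLocalization.ringHom_ext 𝔭.primeCompl (RingHom.ext fun p ↦ ?_)
        show fS (algebraMap R₁ S (algebraMap P R₁ p)) = g (h (algebraMap P R₁ p))
        rw [← IsScalarTower.algebraMap_apply, hfP, hgP]
      · exact (hfres _).trans (congrArg τ ((congrArg (residue A) (hΦS s)).trans (hg₀r s)))
    refine ⟨g, ⟨?_, hgr⟩, fun g' ⟨hg', hgr'⟩ ↦ hguniq g' ⟨?_, hgr'⟩⟩
    · refine IsLocalization.ringHom_ext q'.primeCompl (RingHom.ext fun c ↦ ?_)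
      show g (algebraMap Cq A (algebraMap _ Cq c)) = f (algebraMap _ Cq c)
      rw [hlift]
      induction c using TensorProduct.induction_on with
      | zero => simp
      | add c d hc hd => simp only [map_add, hc, hd]
      | tmul s b =>
        rw [show s ⊗ₜ[P] b = (s ⊗ₜ[P] (1 : B)) * ((1 : S) ⊗ₜ[P] b) by simp]
        simp only [map_mul, hΦS, hΦB, hgB]
        exact congrArg (· * fB b) (RingHom.congr_fun hgS s)
    · refine IsLocalization.ringHom_ext q.primeCompl (RingHom.ext fun b ↦ ?_)
      show g' (algebraMap O A (ω b)) = fO (ω b)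
      rw [IsLocalization.lift_eq, ← hΦB, ← hlift, ← RingHom.comp_apply, hg']
      rfl

end Groth.Agent.Lib.StrictHenselShift
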