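/-
Geometric form: replacing a point of a scheme of finite type over a local ring by a closed point
over a strictly henselian base.
-/
import Groth.Agent.Lib.StrictHenselShift.Basic
import Groth.Agent.Lib.Henselian.StrictHenselization
import Mathlib.AlgebraicGeometry.Morphisms.FiniteType
import Mathlib.AlgebraicGeometry.Morphisms.QuasiCompact
import Mathlib.AlgebraicGeometry.Morphisms.Affine
import Mathlib.RingTheory.AlgebraicIndependent.TranscendenceBasis

set_option autoImplicit false

universe u

open IsLocalRing AlgebraicGeometry CategoryTheory TopologicalSpace Opposite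
open scoped TensorProduct

namespace Groth.Agent.Lib.StrictHenselShift

/-- The prime `m R[t]` of `R[t₁, …, tₙ]`. -/
noncomputable def coeffPrime (R : Type u) [CommRing R] [IsLocalRing R] (n : ℕ) :
    Ideal (MvPolynomial (Fin n) R) :=
  RingHom.ker (MvPolynomial.map (residue R))

instance (R : Type u) [CommRing R] [IsLocalRing R] (n : ℕ) : (coeffPrime R n).IsPrime :=
  RingHom.ker_isPrime _

theorem coeffPrime_eq_map (R : Type u) [CommRing R] [IsLocalRing R] (n : ℕ) :
    coeffPrime R n = (maximalIdeal R).map MvPolynomial.C := by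
  rw [coeffPrime, MvPolynomial.ker_map, ker_residue]

/-- Lifts of a transcendence basis of a residue field. -/
theorem exists_transcendence_lift (R : Type u) [CommRing R] [IsLocalRing R] {B : Type u}
    [CommRing B] [Algebra R B] [Algebra.FiniteType R B] (O : Type u) [CommRing O] [IsLocalRing O]
    [Algebra B O] (q : Ideal B) [q.IsPrime] [IsLocalization.AtPrime O q]
    (hm : ∀ r ∈ maximalIdeal R, algebraMap B O (algebraMap R B r) ∈ maximalIdeal O) :
    ∃ (n : ℕ) (t : Fin n → B), q.comap (MvPolynomial.aeval (R := R) t) = coeffPrime R n ∧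
      ∀ y : ResidueField O, ∃ p : Polynomial (MvPolynomial (Fin n) R),
        p.map ((residue O).comp ((algebraMap B O).comp (MvPolynomial.aeval (R := R) t).toRingHom)) ≠ 0 ∧
        p.eval₂ ((residue O).comp ((algebraMap B O).comp (MvPolynomial.aeval (R := R) t).toRingHom)) y
          = 0 := by
  classical
  let ρ : B →+* ResidueField O := (residue O).comp (algebraMap B O)
  let ι : ResidueField R →+* ResidueField O :=
    Ideal.Quotient.lift (maximalIdeal R) (ρ.comp (algebraMap R B)) fun r hr ↦
      (residue_eq_zero_iff _).mpr (hm r hr)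
  let : Algebra (ResidueField R) (ResidueField O) := ι.toAlgebra
  obtain ⟨s, hs⟩ := (‹Algebra.FiniteType R B›).out
  let S' : Set (ResidueField O) := ρ '' s
  let D := Algebra.adjoin (ResidueField R) S'
  have hmem : ∀ b, ρ b ∈ D := by
    intro b
    have hb : b ∈ Algebra.adjoin R (s : Set B) := hs ▸ Algebra.mem_top
    induction hb using Algebra.adjoin_induction with
    | mem x hx => exact Algebra.subset_adjoin ⟨x, hx, rfl⟩
    | algebraMap r => exact D.algebraMap_mem (residue R r)
    | add x y _ _ hx hy => rw [map_add]; exact add_mem hx hy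
    | mul x y _ _ hx hy => rw [map_mul]; exact mul_mem hx hy
  have halg : Algebra.IsAlgebraic D (ResidueField O) := ⟨fun y ↦ by
    obtain ⟨o, rfl⟩ := residue_surjective y
    obtain ⟨⟨a, c⟩, hac⟩ := IsLocalization.surj q.primeCompl o
    have hc : ρ c.1 ≠ 0 := fun h ↦
      (mem_maximalIdeal _).mp ((residue_eq_zero_iff _).mp h) (IsLocalization.map_units O c)
    have : residue O o = ρ a * (ρ c.1)⁻¹ := by
      rw [eq_mul_inv_iff_mul_eq₀ hc]
      exact (map_mul _ _ _).symm.trans (congrArg (residue O) hac)
    rw [this]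
    exact (isAlgebraic_algebraMap (⟨ρ a, hmem a⟩ : D)).mul
      (isAlgebraic_algebraMap (⟨ρ c.1, hmem c.1⟩ : D)).inv⟩
  obtain ⟨t', ht's, ht'⟩ := exists_isTranscendenceBasis_subset (R := ResidueField R) S'
  have : Finite t' := ((s.finite_toSet.image ρ).subset ht's).to_subtype
  let e : t' ≃ Fin (Nat.card t') := Finite.equivFin t'
  choose pre _ hpre using fun i : Fin (Nat.card t') ↦ ht's (e.symm i).2
  let x : Fin (Nat.card t') → ResidueField O := fun i ↦ (e.symm i).1
  have hx : IsTranscendenceBasis (ResidueField R) x := ht'.comp_equiv e.symm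
  have hcomp : ρ.comp (MvPolynomial.aeval (R := R) pre).toRingHom =
      (MvPolynomial.aeval (R := ResidueField R) x).toRingHom.comp (MvPolynomial.map (residue R)) := by
    refine MvPolynomial.ringHom_ext (fun r ↦ ?_) (fun i ↦ ?_)
    · simp only [RingHom.comp_apply, AlgHom.toRingHom_eq_coe, RingHom.coe_coe, MvPolynomial.map_C,
        MvPolynomial.aeval_C]
      rfl
    · simp only [RingHom.comp_apply, AlgHom.toRingHom_eq_coe, RingHom.coe_coe, MvPolynomial.map_X,
        MvPolynomial.aeval_X]
      exact hpre i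
  refine ⟨_, pre, ?_, fun y ↦ ?_⟩
  · ext p
    have h1 : MvPolynomial.aeval (R := R) pre p ∈ q ↔ ρ (MvPolynomial.aeval (R := R) pre p) = 0 := by
      show _ ↔ residue O (algebraMap B O _) = 0
      rw [residue_eq_zero_iff, IsLocalization.AtPrime.to_map_mem_maximal_iff O q]
    rw [Ideal.mem_comap, h1, coeffPrime, RingHom.mem_ker,
      show ρ (MvPolynomial.aeval (R := R) pre p) = MvPolynomial.aeval (R := ResidueField R) x
        (MvPolynomial.map (residue R) p) from RingHom.congr_fun hcomp p]
    exact map_eq_zero_iff _ hx.1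
  · obtain ⟨p', hp'0, hp'⟩ := hx.isAlgebraic.isAlgebraic y
    let D' := Algebra.adjoin (ResidueField R) (Set.range x)
    let ev : MvPolynomial (Fin (Nat.card t')) R →+* D' :=
      ((MvPolynomial.aeval (R := ResidueField R) x).codRestrict D' fun p ↦ by
        show _ ∈ Algebra.adjoin (ResidueField R) (Set.range x)
        rw [Algebra.adjoin_range_eq_range_aeval]; exact ⟨p, rfl⟩).toRingHom.comp
        (MvPolynomial.map (residue R))
    have hev : Function.Surjective ev := by
      rintro ⟨z, hz⟩
      have hz' : z ∈ (MvPolynomial.aeval (R := ResidueField R) x).range := by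
        rwa [← Algebra.adjoin_range_eq_range_aeval]
      obtain ⟨p, rfl⟩ := hz'
      obtain ⟨p, rfl⟩ := MvPolynomial.map_surjective (residue R) residue_surjective p
      exact ⟨p, rfl⟩
    obtain ⟨p, rfl⟩ := Polynomial.map_surjective ev hev p'
    have hev' : (algebraMap D' (ResidueField O)).comp ev =
        (residue O).comp ((algebraMap B O).comp (MvPolynomial.aeval (R := R) pre).toRingHom) :=
      hcomp.symm
    refine ⟨p, fun h0 ↦ hp'0 (Polynomial.map_injective (algebraMap D' (ResidueField O))
      Subtype.val_injective ?_), ?_⟩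
    · rw [Polynomial.map_map, Polynomial.map_zero, hev', h0]
    · rw [← hev', ← Polynomial.eval₂_map]
      exact hp'

/-- The model over a strictly henselian base. -/
theorem exists_closedPoint_model (R : Type u) [CommRing R] [IsLocalRing R] {X : Scheme.{u}}
    (f : X ⟶ Spec (CommRingCat.of R)) [LocallyOfFiniteType f] (x : X)
    (hx : f.base x = ((closedPoint R : PrimeSpectrum R) : ↥(Spec (CommRingCat.of R))))
    (A : Type u) [CommRing A] [IsLocalRing A] [Algebra (X.presheaf.stalk x) A]
    [IsLocalHom (algebraMap (X.presheaf.stalk x) A)] [Hensel.IsStrictHenselization (X.presheaf.stalk x) A] :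
    ∃ (n : ℕ),
      let S := Henselian.StrictHenselization.StrictHenselization (Localization.AtPrime (coeffPrime R n))
      ∃ (X' : Scheme.{u}) (f' : X' ⟶ Spec (CommRingCat.of S))
        (_ : LocallyOfFiniteType f') (_ : QuasiCompact f') (x' : X') (_ : IsClosed ({x'} : Set X'))
        (_ : f'.base x' = ((closedPoint S : PrimeSpectrum S) : ↥(Spec (CommRingCat.of S))))
        (_ : Algebra (X'.presheaf.stalk x') A) (_ : IsLocalHom (algebraMap (X'.presheaf.stalk x') A)),
        Hensel.IsStrictHenselization (X'.presheaf.stalk x') A := by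
  obtain ⟨U, hU, hxU, -⟩ := exists_isAffineOpen_mem_and_subset (X := X) (U := ⊤) (x := x) trivial
  let e : (U : X.Opens) ≤ f ⁻¹ᵁ ⊤ := le_top
  let φ : R →+* Γ(X, U) :=
    (f.appLE ⊤ U e).hom.comp (Scheme.ΓSpecIso (CommRingCat.of R)).inv.hom
  let : Algebra R Γ(X, U) := φ.toAlgebra
  have : Algebra.FiniteType R Γ(X, U) := by
    show φ.FiniteType
    refine RingHom.FiniteType.comp (f.finiteType_appLE (isAffineOpen_top _) hU e) ?_
    exact RingHom.FiniteType.of_surjective _
      (Scheme.ΓSpecIso (CommRingCat.of R)).commRingCatIsoToRingEquiv.symm.surjective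
  let : Algebra Γ(X, U) (X.presheaf.stalk x) :=
    TopCat.Presheaf.algebra_section_stalk X.presheaf ⟨x, hxU⟩
  have hloc := hU.isLocalization_stalk ⟨x, hxU⟩
  let q := (hU.primeIdealOf ⟨x, hxU⟩).asIdeal
  have hm : ∀ r ∈ maximalIdeal R,
      algebraMap Γ(X, U) (X.presheaf.stalk x) (φ r) ∈ maximalIdeal (X.presheaf.stalk x) := by
    intro r hr hu
    have hxb : x ∈ X.basicOpen (φ r) := (X.mem_basicOpen (φ r) x hxU).mpr hu
    rw [show φ r = (f.appLE ⊤ U e).hom ((Scheme.ΓSpecIso (CommRingCat.of R)).inv.hom r) from rfl,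
      Scheme.basicOpen_appLE] at hxb
    have h2 : f.base x ∈ (Spec (CommRingCat.of R)).basicOpen
        ((Scheme.ΓSpecIso (CommRingCat.of R)).inv.hom r) := hxb.2
    rw [hx, basicOpen_eq_of_affine] at h2
    exact h2 hr
  obtain ⟨n, t, hq, halg⟩ := exists_transcendence_lift R (X.presheaf.stalk x) q hm
  refine ⟨n, ?_⟩
  intro S
  let : Algebra (MvPolynomial (Fin n) R) Γ(X, U) := (MvPolynomial.aeval (R := R) t).toRingHom.toAlgebra
  let : Algebra (MvPolynomial (Fin n) R) S :=
    ((algebraMap (Localization.AtPrime (coeffPrime R n)) S).comp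
      (algebraMap (MvPolynomial (Fin n) R) (Localization.AtPrime (coeffPrime R n)))).toAlgebra
  have : IsScalarTower (MvPolynomial (Fin n) R) (Localization.AtPrime (coeffPrime R n)) S :=
    .of_algebraMap_eq' rfl
  have : IsScalarTower R (MvPolynomial (Fin n) R) Γ(X, U) :=
    .of_algebraMap_eq fun r ↦ ((MvPolynomial.aeval (R := R) t).commutes r).symm
  have : Algebra.FiniteType (MvPolynomial (Fin n) R) Γ(X, U) :=
    Algebra.FiniteType.of_restrictScalars_finiteType R _ _
  obtain ⟨q', hmax, hqS, H⟩ := exists_maximal_isStrictHenselization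
    (Localization.AtPrime (coeffPrime R n)) (coeffPrime R n) S (X.presheaf.stalk x) q hq A halg
  let C := S ⊗[MvPolynomial (Fin n) R] Γ(X, U)
  let x' : ↥(Spec (CommRingCat.of C)) := (⟨q', hmax.isPrime⟩ : PrimeSpectrum C)
  let : Algebra C ((Spec (CommRingCat.of C)).presheaf.stalk x') :=
    StructureSheaf.stalkAlgebra _ x'
  have : IsLocalization.AtPrime ((Spec (CommRingCat.of C)).presheaf.stalk x') q' :=
    StructureSheaf.IsLocalization.to_stalk _ x' 
  obtain ⟨i1, i2, i3⟩ := H ((Spec (CommRingCat.of C)).presheaf.stalk x')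
  refine ⟨Spec (CommRingCat.of C), Spec.map (CommRingCat.ofHom (algebraMap S C)), ?_, inferInstance,
    x', ?_, ?_, i1, i2, i3⟩
  · rw [HasRingHomProperty.Spec_iff (P := @LocallyOfFiniteType), CommRingCat.hom_ofHom,
      RingHom.finiteType_algebraMap]
    infer_instance
  · exact (PrimeSpectrum.isClosed_singleton_iff_isMaximal x').mpr hmax
  · exact PrimeSpectrum.ext hqS

end Groth.Agent.Lib.StrictHenselShift
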