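/-
The base rings of the closed-point models: a field, resp. a discrete valuation ring.
-/
import Groth.Agent.Lib.StrictHenselShift.Scheme
import Groth.Agent.S9262
import Groth.Agent.Lib.Henselian.Henselization
import Mathlib.RingTheory.DiscreteValuationRing.TFAE

set_option autoImplicit false

universe u

open IsLocalRing
open Groth.Agent.Lib.Henselian.StrictHenselization

namespace Groth.Agent.Lib.StrictHenselShift

theorem maximalIdeal_atPrime (R : Type u) [CommRing R] [IsLocalRing R] (n : ℕ) :
    maximalIdeal (Localization.AtPrime (coeffPrime R n)) =
      Ideal.map (algebraMap (MvPolynomial (Fin n) R) (Localization.AtPrime (coeffPrime R n)))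
        ((maximalIdeal R).map MvPolynomial.C) :=
  Localization.AtPrime.map_eq_maximalIdeal.symm.trans
    (congrArg (Ideal.map _) (coeffPrime_eq_map R n))

theorem isField_strictHenselization (k : Type u) [Field k] (n : ℕ) :
    IsField (StrictHenselization (Localization.AtPrime (coeffPrime k n))) := by
  rw [isField_iff_maximalIdeal_eq, ← map_maximalIdeal (Localization.AtPrime (coeffPrime k n)),
    maximalIdeal_atPrime,
    show maximalIdeal k = ⊥ from isField_iff_maximalIdeal_eq.mp (Field.toIsField k),
    Ideal.map_bot, Ideal.map_bot, Ideal.map_bot]

theorem isSepClosed_residueField (R : Type u) [CommRing R] [IsLocalRing R] :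
    IsSepClosed (ResidueField (StrictHenselization R)) :=
  (Hensel.IsStrictHenselization.isSepClosure (R := R) (S := StrictHenselization R)).sep_closed

theorem isSepClosed_of_isField (R : Type u) [CommRing R] [IsLocalRing R]
    (h : IsField (StrictHenselization R)) :
    letI := h.toField
    IsSepClosed (StrictHenselization R) := by
  let _ := h.toField
  have hb : maximalIdeal (StrictHenselization R) = ⊥ := isField_iff_maximalIdeal_eq.mp h
  have hinj : Function.Injective (residue (StrictHenselization R)) := by
    rw [injective_iff_map_eq_zero]
    intro a ha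
    have := (residue_eq_zero_iff a).mp ha
    rw [hb] at this
    exact this
  have := isSepClosed_residueField R
  exact isSepClosed_of_ringEquiv (RingEquiv.ofBijective _ ⟨hinj, residue_surjective⟩).symm

theorem isDiscreteValuationRing_atPrime (R : Type u) [CommRing R] [IsDomain R]
    [IsDiscreteValuationRing R] (n : ℕ) :
    IsDiscreteValuationRing (Localization.AtPrime (coeffPrime R n)) := by
  obtain ⟨ϖ, hϖ⟩ := IsDiscreteValuationRing.exists_irreducible R
  have hmax : maximalIdeal (Localization.AtPrime (coeffPrime R n)) =
      Ideal.span {algebraMap (MvPolynomial (Fin n) R) (Localization.AtPrime (coeffPrime R n))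
        (MvPolynomial.C ϖ)} := by
    rw [maximalIdeal_atPrime, hϖ.maximalIdeal_eq,
      Ideal.map_span, Ideal.map_span, Set.image_singleton, Set.image_singleton]
  have hinj : Function.Injective (algebraMap (MvPolynomial (Fin n) R)
      (Localization.AtPrime (coeffPrime R n))) :=
    IsLocalization.injective _ (coeffPrime R n).primeCompl_le_nonZeroDivisors
  have hnf : ¬ IsField (Localization.AtPrime (coeffPrime R n)) := by
    rw [isField_iff_maximalIdeal_eq, hmax, Ideal.span_singleton_eq_bot, map_eq_zero_iff _ hinj,
      MvPolynomial.C_eq_zero]
    exact hϖ.ne_zero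
  have : IsNoetherianRing (Localization.AtPrime (coeffPrime R n)) :=
    IsLocalization.isNoetherianRing (coeffPrime R n).primeCompl _ inferInstance
  have h04 : IsDiscreteValuationRing (Localization.AtPrime (coeffPrime R n)) ↔
      (maximalIdeal (Localization.AtPrime (coeffPrime R n))).IsPrincipal :=
    (IsDiscreteValuationRing.TFAE _ hnf).out 0 4
  exact h04.mpr ⟨_, hmax⟩

theorem isDiscreteValuationRing_strictHenselization (R : Type u) [CommRing R] [IsDomain R]
    [IsDiscreteValuationRing R] (n : ℕ) :
    ∃ _ : IsDomain (StrictHenselization (Localization.AtPrime (coeffPrime R n))),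
      IsDiscreteValuationRing (StrictHenselization (Localization.AtPrime (coeffPrime R n))) := by
  have : IsNoetherianRing (Localization.AtPrime (coeffPrime R n)) :=
    IsLocalization.isNoetherianRing (coeffPrime R n).primeCompl _ inferInstance
  exact ((Groth.Agent.S9262.result (Localization.AtPrime (coeffPrime R n))
    (Groth.Agent.Lib.Henselian.Henselization.Henselization (Localization.AtPrime (coeffPrime R n)))
    (StrictHenselization (Localization.AtPrime (coeffPrime R n)))).2.mp
    ⟨inferInstance, isDiscreteValuationRing_atPrime R n⟩)

end Groth.Agent.Lib.StrictHenselShift
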